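/- Characters of a Hopf algebra split by a field extension: Galois action, values at points (helper92). -/
import Groth.Agent.Sga3.CharDescent
import Groth.Agent.Sga3.MultType

set_option autoImplicit false

universe u

open TensorProduct

noncomputable section

namespace Groth.TorusPts

variable {K : Type u} [Field K] {E : Type u} [Field E] [Algebra K E] {A : Type u} [CommRing A]
  [HopfAlgebra K A] {R : Type u} [CommRing R] [Algebra K R]

/-- convolution of points -/
abbrev cv (g h : A →ₐ[K] R) : A →ₐ[K] R :=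
  (Algebra.TensorProduct.lift g h fun _ _ => .all _ _).comp (Bialgebra.comulAlgHom K A)

/-- the unit point -/
abbrev one' (K A R : Type u) [Field K] [CommRing A] [HopfAlgebra K A] [CommRing R] [Algebra K R] :
    A →ₐ[K] R :=
  (Algebra.ofId K R).comp (Bialgebra.counitAlgHom K A)

lemma comp_cv {R' : Type u} [CommRing R'] [Algebra K R'] (f : R →ₐ[K] R') (g h : A →ₐ[K] R) :
    f.comp (cv g h) = cv (f.comp g) (f.comp h) := by
  rw [cv, cv, ← AlgHom.comp_assoc]
  congr 1
  ext a <;> simp

lemma comp_one' {R' : Type u} [CommRing R'] [Algebra K R'] (f : R →ₐ[K] R') :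
    f.comp (one' K A R) = one' K A R' := by
  ext a
  simp

/-- evaluation of an element of `E ⊗ A` at a point -/
abbrev ev (ι : E →ₐ[K] R) (g : A →ₐ[K] R) : E ⊗[K] A →ₐ[K] R :=
  Algebra.TensorProduct.productMap ι g

lemma comp_ev {R' : Type u} [CommRing R'] [Algebra K R'] (f : R →ₐ[K] R') (ι : E →ₐ[K] R)
    (g : A →ₐ[K] R) : f.comp (ev ι g) = ev (f.comp ι) (f.comp g) := by
  ext a <;> simp

lemma ev_map (ι : E →ₐ[K] R) (g : A →ₐ[K] R) (γ : E →ₐ[K] E) (y : E ⊗[K] A) :
    ev ι g (Algebra.TensorProduct.map γ (AlgHom.id K A) y) = ev (ι.comp γ) g y := by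
  rw [← AlgHom.comp_apply]
  congr 1
  ext a <;> simp

section Tower

variable [Algebra E R] [IsScalarTower K E R]

/-- extension of a point -/
abbrev bcp (g : A →ₐ[K] R) : E ⊗[K] A →ₐ[E] R :=
  Algebra.TensorProduct.lift (Algebra.ofId E R) g fun _ _ => .all _ _

lemma ev_toAlgHom_eq (g : A →ₐ[K] R) (y : E ⊗[K] A) :
    ev (IsScalarTower.toAlgHom K E R) g y = bcp g y := by
  induction y using TensorProduct.induction_on with
  | zero => simp
  | add x y hx hy => simp only [map_add, hx, hy]
  | tmul s a => simp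

lemma ev_cv_eq (g h : A →ₐ[K] R) (y : E ⊗[K] A) :
    ev (IsScalarTower.toAlgHom K E R) (cv g h) y =
      Algebra.TensorProduct.lift (bcp (E := E) g) (bcp (E := E) h) (fun _ _ => .all _ _)
        (Coalgebra.comul (R := E) y) := by
  induction y using TensorProduct.induction_on with
  | zero => simp
  | add x y hx hy => simp only [map_add, hx, hy]
  | tmul s a =>
    obtain r := Coalgebra.Repr.arbitrary K a
    rw [TensorProduct.comul_tmul, ← r.eq]
    simp [cv, Bialgebra.comulAlgHom_apply, ← r.eq, Finset.mul_sum, TensorProduct.tmul_sum,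
      map_sum, CommSemiring.comul_apply]
    exact Finset.sum_congr rfl fun i _ => by ring

lemma ev_one_eq (y : E ⊗[K] A) :
    ev (IsScalarTower.toAlgHom K E R) (one' K A R) y = algebraMap E R (Coalgebra.counit (R := E) y) := by
  induction y using TensorProduct.induction_on with
  | zero => simp
  | add x y hx hy => simp only [map_add, hx, hy]
  | tmul s a =>
    simp [Algebra.smul_def, mul_comm, ← IsScalarTower.algebraMap_apply]

end Tower

lemma ev_cv_of_isGroupLike {x : E ⊗[K] A} (hx : IsGroupLikeElem E x) (ι : E →ₐ[K] R)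
    (g h : A →ₐ[K] R) : ev ι (cv g h) x = ev ι g x * ev ι h x := by
  letI := ι.toRingHom.toAlgebra
  haveI : IsScalarTower K E R := IsScalarTower.of_algebraMap_eq fun r => (ι.commutes r).symm
  have hι : IsScalarTower.toAlgHom K E R = ι := AlgHom.ext fun _ => rfl
  rw [← hι, ev_cv_eq, hx.comul_eq_tmul_self, Algebra.TensorProduct.lift_tmul, ev_toAlgHom_eq,
    ev_toAlgHom_eq]

lemma ev_one_of_isGroupLike {x : E ⊗[K] A} (hx : IsGroupLikeElem E x) (ι : E →ₐ[K] R) :
    ev ι (one' K A R) x = 1 := by
  letI := ι.toRingHom.toAlgebra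
  haveI : IsScalarTower K E R := IsScalarTower.of_algebraMap_eq fun r => (ι.commutes r).symm
  have hι : IsScalarTower.toAlgHom K E R = ι := AlgHom.ext fun _ => rfl
  rw [← hι, ev_one_eq, hx.counit_eq_one, map_one]

/-- group-like elements are detected by points -/
lemma isGroupLike_of_ev {x : E ⊗[K] A}
    (hmul : ∀ (R : Type u) [CommRing R] [Algebra K R] (ι : E →ₐ[K] R) (g h : A →ₐ[K] R),
      ev ι (cv g h) x = ev ι g x * ev ι h x)
    (hone : ∀ (R : Type u) [CommRing R] [Algebra K R] (ι : E →ₐ[K] R), ev ι (one' K A R) x = 1) :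
    IsGroupLikeElem E x := by
  refine ⟨?_, ?_⟩
  · have h := hone E (IsScalarTower.toAlgHom K E E)
    rwa [ev_one_eq, Algebra.algebraMap_self, RingHom.id_apply] at h
  · let P := (E ⊗[K] A) ⊗[E] (E ⊗[K] A)
    let i1 : E ⊗[K] A →ₐ[E] P := Algebra.TensorProduct.includeLeft
    let i2 : E ⊗[K] A →ₐ[E] P := Algebra.TensorProduct.includeRight
    let inc : A →ₐ[K] E ⊗[K] A := Algebra.TensorProduct.includeRight
    let g : A →ₐ[K] P := (i1.restrictScalars K).comp inc
    let h : A →ₐ[K] P := (i2.restrictScalars K).comp inc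
    have hg : bcp (E := E) g = i1 := by
      ext a
      simp [g, inc]
    have hh : bcp (E := E) h = i2 := by
      ext a
      simp [h, inc]
    have key := hmul P (IsScalarTower.toAlgHom K E P) g h
    rw [ev_cv_eq, ev_toAlgHom_eq, ev_toAlgHom_eq, hg, hh] at key
    have hid : Algebra.TensorProduct.lift i1 i2 (fun _ _ => .all _ _) = AlgHom.id E P := by
      ext a <;> simp [i1, i2] <;> rfl
    rw [hid] at key
    rw [AlgHom.id_apply] at key
    rw [key]
    show (x ⊗ₜ[E] (1 : E ⊗[K] A)) * ((1 : E ⊗[K] A) ⊗ₜ[E] x) = _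
    rw [Algebra.TensorProduct.tmul_mul_tmul, mul_one, one_mul]

variable {N : Type u} [CommGroup N] (e : E ⊗[K] A ≃ₐc[E] MonoidAlgebra E N)

/-- the character -/
def chr (m : N) : E ⊗[K] A := e.symm (MonoidAlgebra.single m 1)

lemma isGroupLike_chr (m : N) : IsGroupLikeElem E (chr e m) :=
  (MonoidAlgebra.isGroupLikeElem_single_one (R := E) m).map e.symm

lemma e_chr (m : N) : e (chr e m) = MonoidAlgebra.single m 1 := e.apply_symm_apply _

lemma chr_one : chr e 1 = 1 := by
  rw [chr, ← MonoidAlgebra.one_def, map_one]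

lemma chr_mul (a b : N) : chr e (a * b) = chr e a * chr e b := by
  rw [chr, chr, chr, ← map_mul, MonoidAlgebra.single_mul_single, one_mul]

lemma chr_injective : Function.Injective (chr e) := fun a b h =>
  MonoidAlgebra.single_left_injective (R := E) one_ne_zero (e.symm.injective h)

include e in
lemma point_ext (ι : E →ₐ[K] R) {g g' : A →ₐ[K] R}
    (h : ∀ m, ev ι g (chr e m) = ev ι g' (chr e m)) : g = g' := by
  have hall : ∀ y, ev ι g y = ev ι g' y := by
    intro y
    suffices H : ∀ z, ev ι g (e.symm z) = ev ι g' (e.symm z) by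
      simpa [BialgEquiv.symm_apply_apply] using H (e y)
    intro z
    induction z using MonoidAlgebra.induction_on with
    | of m => exact h m
    | add p q hp hq => simp only [map_add, hp, hq]
    | smul r p hp =>
      rw [map_smul, Algebra.smul_def, map_mul, map_mul, hp]
      congr 1
      simp [Algebra.TensorProduct.algebraMap_apply]
  ext a
  simpa using hall (1 ⊗ₜ a)

lemma exists_perm (γ : E →ₐ[K] E) (m : N) :
    ∃ n, Algebra.TensorProduct.map γ (AlgHom.id K A) (chr e m) = chr e n := by
  have h : IsGroupLikeElem E (Algebra.TensorProduct.map γ (AlgHom.id K A) (chr e m)) := by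
    refine isGroupLike_of_ev (fun R _ _ ι g g' => ?_) (fun R _ _ ι => ?_)
    · rw [ev_map, ev_map, ev_map]
      exact ev_cv_of_isGroupLike (isGroupLike_chr e m) _ _ _
    · rw [ev_map]
      exact ev_one_of_isGroupLike (isGroupLike_chr e m) _
  obtain ⟨n, hn⟩ := Groth.Sga3.CharLift.exists_eq_single (h.map e)
  exact ⟨n, (e : E ⊗[K] A ≃ₐ[E] MonoidAlgebra E N).injective (hn.trans (e_chr e n).symm)⟩

/-- Galois action on characters -/
def rhoFun (γ : E →ₐ[K] E) (m : N) : N := (exists_perm e γ m).choose

lemma rhoFun_spec (γ : E →ₐ[K] E) (m : N) :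
    Algebra.TensorProduct.map γ (AlgHom.id K A) (chr e m) = chr e (rhoFun e γ m) :=
  (exists_perm e γ m).choose_spec

/-- Galois action on characters, as a homomorphism -/
def rhoHom (γ : E →ₐ[K] E) : N →* N :=
  MonoidHom.mk' (rhoFun e γ) fun a b => chr_injective e (by
    rw [chr_mul, ← rhoFun_spec, ← rhoFun_spec, ← rhoFun_spec, ← map_mul, chr_mul])

lemma rhoHom_spec (γ : E →ₐ[K] E) (m : N) :
    Algebra.TensorProduct.map γ (AlgHom.id K A) (chr e m) = chr e (rhoHom e γ m) :=
  rhoFun_spec e γ m

lemma rhoHom_comp (γ δ : E →ₐ[K] E) (m : N) :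
    rhoHom e (γ.comp δ) m = rhoHom e γ (rhoHom e δ m) := chr_injective e <| by
  rw [← rhoHom_spec, ← rhoHom_spec, ← rhoHom_spec, ← AlgHom.comp_apply,
    ← Algebra.TensorProduct.map_comp, AlgHom.id_comp]

lemma rhoHom_id (m : N) : rhoHom e (AlgHom.id K E) m = m := chr_injective e <| by
  rw [← rhoHom_spec, Algebra.TensorProduct.map_id, AlgHom.id_apply]

/-- values of a point on characters -/
def val (x : A →ₐ[K] K) : N →* Eˣ :=
  MonoidHom.toHomUnits (MonoidHom.mk
    ⟨fun m => ev (AlgHom.id K E) ((Algebra.ofId K E).comp x) (chr e m), by rw [chr_one, map_one]⟩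
    fun a b => by simp [chr_mul])

lemma val_apply (x : A →ₐ[K] K) (m : N) :
    (val e x m : E) = ev (AlgHom.id K E) ((Algebra.ofId K E).comp x) (chr e m) := rfl

lemma val_cv (x y : A →ₐ[K] K) : val e (cv x y) = val e x * val e y := by
  ext m
  rw [MonoidHom.mul_apply, Units.val_mul, val_apply, val_apply, val_apply, comp_cv]
  exact ev_cv_of_isGroupLike (isGroupLike_chr e m) _ _ _

lemma val_one' : val e (one' K A K) = 1 := by
  ext m
  rw [MonoidHom.one_apply, Units.val_one, val_apply, comp_one']
  exact ev_one_of_isGroupLike (isGroupLike_chr e m) _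

lemma val_injective : Function.Injective (val e) := fun x y h => by
  have : (Algebra.ofId K E).comp x = (Algebra.ofId K E).comp y :=
    point_ext e (AlgHom.id K E) fun m => by
      have := congrArg (fun φ : N →* Eˣ => (φ m : E)) h
      simpa [val_apply] using this
  exact AlgHom.ext fun a => (algebraMap K E).injective (AlgHom.congr_fun this a)

lemma val_rho (γ : E →ₐ[K] E) (x : A →ₐ[K] K) (m : N) :
    (val e x (rhoHom e γ m) : E) = γ (val e x m) := by
  rw [val_apply, val_apply, ← rhoHom_spec, ev_map, ← AlgHom.comp_apply γ, comp_ev]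
  congr 2
  ext a
  simp

end Groth.TorusPts
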