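/- A form of a diagonalisable group is Spec of a Hopf algebra split by the field extension (helper92). -/
import Groth.Agent.TorusPts.Chars
import Groth.Agent.AlgGrp2.DiagBaseChange
import Groth.Agent.Misc7.AffineGroupPoints
import Groth.Agent.EtaleBase.FpqcDescent

set_option autoImplicit false

universe u

open TensorProduct CategoryTheory AlgebraicGeometry MonoidalCategory CartesianMonoidalCategory MonObj
  CategoryTheory.Limits
open Groth.AlgGrp2

noncomputable section

namespace Groth.TorusPts

variable {K : Type u} [Field K]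

lemma isAffine_of_split {M : Type} [AddCommGroup M] (T : Over (Spec (CommRingCat.of K))) [GrpObj T]
    (L : Type u) [Field L] [Algebra K L]
    (h : Red.IsSplitTorusWith M (Red.bc (str K L) T)) : IsAffine T.left := by
  have hi : Red.diag L M ≅ Red.bc (str K L) T := diagIsoOfSplit L M h
  have : IsAffine (Red.diag L M).left :=
    inferInstanceAs (IsAffine (Spec (CommRingCat.of (MonoidAlgebra L (Multiplicative M)))))
  haveI : IsAffine ((Over.forget _).obj (Red.diag L M)) := this
  have : IsAffine (Red.bc (str K L) T).left :=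
    IsAffine.of_isIso ((Over.forget _).mapIso hi).inv
  have hsnd : IsAffineHom (pullback.snd T.hom (str K L)) := by
    haveI : IsAffine (pullback T.hom (str K L)) := this
    infer_instance
  have hF : Groth.EtaleBase.Fpqc (str K L) := by
    refine ⟨⟨⟨?_⟩, ?_⟩, inferInstance⟩
    · exact fun x => ⟨default, Subsingleton.elim _ _⟩
    · exact Flat.SpecMap_iff.mpr (RingHom.flat_algebraMap_iff.mpr inferInstance)
  have : IsAffineHom T.hom :=
    MorphismProperty.of_pullback_snd_of_descendsAlong (Q := Groth.EtaleBase.Fpqc) hF hsnd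
  exact isAffine_of_isAffineHom T.hom

/-- a form of a diagonalisable group: Hopf algebra, split over `L` -/
theorem exists_hopf_split {M : Type} [AddCommGroup M] (T : Over (Spec (CommRingCat.of K))) [GrpObj T]
    (L : Type u) [Field L] [Algebra K L]
    (h : Red.IsSplitTorusWith M (Red.bc (str K L) T)) :
    ∃ (A : Type u) (_ : CommRing A) (_ : HopfAlgebra K A) (j : CoactBr.sp K A ≅ T),
      IsMonHom j.hom ∧
        Nonempty (L ⊗[K] A ≃ₐc[L] MonoidAlgebra L (Multiplicative M)) := by
  haveI := isAffine_of_split T L h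
  obtain ⟨A, ⟨w⟩⟩ := Groth.Misc7.AffineGroupPoints.exists_hopf T
  let j : CoactBr.sp K A ≅ T := (Grp.forget _).mapIso w
  haveI hj : IsMonHom j.hom := inferInstanceAs (IsMonHom w.hom.hom.hom)
  haveI : IsMonHom j.inv := inferInstanceAs (IsMonHom w.inv.hom.hom)
  refine ⟨A, inferInstance, inferInstance, j, hj, ?_⟩
  let D := MonoidAlgebra L (Multiplicative M)
  let d : Red.diag L M ≅ Red.bc (str K L) T := diagIsoOfSplit L M h
  haveI : IsMonHom d.hom := isMonHom_diagIsoOfSplit L M h
  obtain ⟨φ, hφ⟩ := pt_surjective (R := K) (B := (A : Type u)) (K := D) (affPt K (L := D) d.hom ≫ j.inv)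
  have hθ : ∀ {R : Type u} [CommRing R] [Algebra K R] [Algebra L R] [IsScalarTower K L R]
      (ψ : D →ₐ[L] R), CoactBr.pt ((ψ.restrictScalars K).comp φ) =
        affPt K (CoactBr.pt ψ ≫ d.hom) ≫ j.inv := by
    intro R _ _ _ _ ψ
    rw [CoactBr.pt_comp, hφ, affPt_comp, Category.assoc]
  have hbij : ∀ {R : Type u} [CommRing R] [Algebra K R] [Algebra L R] [IsScalarTower K L R],
      Function.Bijective fun ψ : D →ₐ[L] R => (ψ.restrictScalars K).comp φ := by
    intro R _ _ _ _
    refine ⟨fun ψ ψ' e => ?_, fun g => ?_⟩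
    · have e' := congrArg CoactBr.pt e
      rw [hθ, hθ, cancel_mono] at e'
      exact CoactBr.pt_injective ((cancel_mono d.hom).1 (affPt_injective e'))
    · obtain ⟨t, ht⟩ := affPt_surjective (K := L) (L := R) (CoactBr.pt g ≫ j.hom)
      obtain ⟨ψ, hψ⟩ := pt_surjective (R := L) (B := D) (K := R) (t ≫ d.inv)
      refine ⟨ψ, CoactBr.pt_injective ?_⟩
      show CoactBr.pt ((ψ.restrictScalars K).comp φ) = _
      rw [hθ, hψ, Category.assoc, Iso.inv_hom_id, Category.comp_id, ht, Category.assoc,
        Iso.hom_inv_id, Category.comp_id]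
  have hmul : ∀ {R : Type u} [CommRing R] [Algebra K R] [Algebra L R] [IsScalarTower K L R]
      (ψ ψ' : D →ₐ[L] R),
      ((((Algebra.TensorProduct.lift ψ ψ' fun _ _ => .all _ _).comp
        (Bialgebra.comulAlgHom L D)).restrictScalars K).comp φ) =
        cv ((ψ.restrictScalars K).comp φ) ((ψ'.restrictScalars K).comp φ) := by
    intro R _ _ _ _ ψ ψ'
    apply CoactBr.pt_injective
    rw [hθ, cv, ← CoactBr.pt_mul_pt, ← CoactBr.pt_mul_pt, hθ, hθ, MonObj.mul_comp, affPt_mul,
      MonObj.mul_comp]
  have hone : ((((Algebra.ofId L L).comp (Bialgebra.counitAlgHom L D))).restrictScalars K).comp φ =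
      one' K A L := by
    apply CoactBr.pt_injective
    rw [hθ, one', ← CoactBr.one_eq_pt, ← CoactBr.one_eq_pt, MonObj.one_comp]
    have h1 : affPt K (1 : CoactBr.sp L L ⟶ Red.bc (str K L) T) = 1 := by
      have h2 := affPt_mul (R := K) (1 : CoactBr.sp L L ⟶ Red.bc (str K L) T) 1
      rw [_root_.mul_one] at h2
      exact left_eq_mul.mp h2
    rw [h1, MonObj.one_comp]
  let Φ : L ⊗[K] A →ₐ[L] D :=
    Algebra.TensorProduct.lift (Algebra.ofId L D) φ fun _ _ => .all _ _
  obtain ⟨Ψ, hΨ⟩ := (hbij (R := L ⊗[K] A)).2 Algebra.TensorProduct.includeRight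
  have hΨΦ : Ψ.comp Φ = AlgHom.id L (L ⊗[K] A) := by
    ext a
    have := AlgHom.congr_fun hΨ a
    simpa [Φ] using this
  have hΦΨ : Φ.comp Ψ = AlgHom.id L D := by
    apply (hbij (R := D)).1
    ext a
    have := AlgHom.congr_fun hΨ a
    simp only [AlgHom.comp_apply, AlgHom.restrictScalars_apply] at this ⊢
    rw [this]
    simp [Φ]
  let Φe : L ⊗[K] A ≃ₐ[L] D := AlgEquiv.ofAlgHom Φ Ψ hΦΨ hΨΦ
  refine ⟨BialgEquiv.ofAlgEquiv Φe ?_ ?_⟩
  · ext a
    have := AlgHom.congr_fun hone a
    simpa [Φe, Φ] using this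
  · refine AlgHom.ext fun y => ?_
    show Algebra.TensorProduct.map Φ Φ (Coalgebra.comul (R := L) y) = Bialgebra.comulAlgHom L D (Φ y)
    have := hmul (R := D ⊗[L] D) Algebra.TensorProduct.includeLeft Algebra.TensorProduct.includeRight
    have hid : Algebra.TensorProduct.lift (R := L) (S := L)
        (Algebra.TensorProduct.includeLeft : D →ₐ[L] D ⊗[L] D) Algebra.TensorProduct.includeRight
        (fun _ _ => .all _ _) = AlgHom.id L (D ⊗[L] D) := by
      apply Algebra.TensorProduct.ext'
      intro p q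
      simp
    rw [hid, AlgHom.id_comp] at this
    induction y using TensorProduct.induction_on with
    | zero => simp
    | add p q hp hq => simp only [map_add, hp, hq]
    | tmul s a =>
      have hs : s ⊗ₜ[K] a = s • ((1 : L) ⊗ₜ[K] a) := by
        rw [TensorProduct.smul_tmul', smul_eq_mul, _root_.mul_one]
      rw [hs, map_smul, map_smul, map_smul, map_smul]
      congr 1
      have ha := AlgHom.congr_fun this a
      simp only [AlgHom.comp_apply, AlgHom.restrictScalars_apply] at ha
      rw [show Φ ((1 : L) ⊗ₜ[K] a) = φ a by simp [Φ], ha]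
      obtain r := Coalgebra.Repr.arbitrary K a
      rw [TensorProduct.comul_tmul, ← r.eq]
      simp [cv, Bialgebra.comulAlgHom_apply, ← r.eq, TensorProduct.tmul_sum, map_sum,
        CommSemiring.comul_apply, Φ]

end Groth.TorusPts
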