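/- An invariant cocharacter descends to a Hopf surjection onto Laurent polynomials (helper92). -/
import Groth.Agent.TorusPts.Chars
import Groth.Agent.AlgGrp2.DiagBaseChange

set_option autoImplicit false

universe u

open TensorProduct CategoryTheory AlgebraicGeometry MonoidalCategory CartesianMonoidalCategory MonObj
open Groth.AlgGrp2

noncomputable section

namespace Groth.TorusPts

variable {K : Type u} [Field K] {E : Type u} [Field E] [Algebra K E] {A : Type u} [CommRing A]
  [HopfAlgebra K A] {R : Type u} [CommRing R] [Algebra K R]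
  {N : Type u} [CommGroup N] (e : E ⊗[K] A ≃ₐc[E] MonoidAlgebra E N)

/-- Laurent polynomials -/
abbrev LP (k : Type u) [CommRing k] : Type u := MonoidAlgebra k (Multiplicative ℤ)

lemma cv_single (g h : LP K →ₐ[K] R) (z : Multiplicative ℤ) :
    cv g h (MonoidAlgebra.single z 1) = g (MonoidAlgebra.single z 1) * h (MonoidAlgebra.single z 1) := by
  simp [cv, Bialgebra.comulAlgHom_apply, MonoidAlgebra.comul_single]

/-- the map `E ⊗ A → E[ℤ]` of a cocharacter -/
def psiE (v : N →* Multiplicative ℤ) : E ⊗[K] A →ₐ[E] LP E :=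
  (MonoidAlgebra.mapDomainAlgHom E E v).comp (e : E ⊗[K] A →ₐ[E] MonoidAlgebra E N)

lemma psiE_chr (v : N →* Multiplicative ℤ) (m : N) :
    psiE e v (chr e m) = MonoidAlgebra.single (v m) 1 := by
  show MonoidAlgebra.mapDomainAlgHom E E v (e (chr e m)) = _
  rw [e_chr]
  simp

lemma mapRingHom_psiE (v : N →* Multiplicative ℤ) (σ : E →ₐ[K] E)
    (hv : ∀ m, v (rhoHom e σ m) = v m) (y : E ⊗[K] A) :
    MonoidAlgebra.mapRingHom (Multiplicative ℤ) (σ : E →+* E) (psiE e v y) =
      psiE e v (Algebra.TensorProduct.map σ (AlgHom.id K A) y) := by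
  suffices H : ∀ z, MonoidAlgebra.mapRingHom (Multiplicative ℤ) (σ : E →+* E) (psiE e v (e.symm z)) =
      psiE e v (Algebra.TensorProduct.map σ (AlgHom.id K A) (e.symm z)) by
    simpa [BialgEquiv.symm_apply_apply] using H (e y)
  intro z
  induction z using MonoidAlgebra.induction_on with
  | of m =>
    show MonoidAlgebra.mapRingHom _ _ (psiE e v (chr e m)) = psiE e v (Algebra.TensorProduct.map σ _ (chr e m))
    rw [rhoHom_spec, psiE_chr, psiE_chr, hv]
    simp
  | add p q hp hq => simp only [map_add, hp, hq]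
  | smul r p hp =>
    rw [map_smul, Algebra.smul_def, map_mul, map_mul, map_mul, map_mul, hp]
    congr 1
    rw [AlgHom.commutes, Algebra.TensorProduct.algebraMap_apply, Algebra.TensorProduct.map_tmul,
      AlgHom.id_apply, Algebra.algebraMap_self, RingHom.id_apply]
    change _ = psiE e v (algebraMap E (E ⊗[K] A) (σ r))
    rw [AlgHom.commutes]
    simp [MonoidAlgebra.coe_algebraMap]

lemma mapAlgHomMon_injective : Function.Injective (mapAlgHomMon K E ℤ) := by
  intro a b h
  ext x
  have h' : (MonoidAlgebra.mapRingHom (Multiplicative ℤ) (algebraMap K E) a).coeff x =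
      (MonoidAlgebra.mapRingHom (Multiplicative ℤ) (algebraMap K E) b).coeff x :=
    congrArg (fun t : MonoidAlgebra E (Multiplicative ℤ) => t.coeff x) h
  simpa [MonoidAlgebra.mapRingHom] using h'

lemma psiE_mem_range [FiniteDimensional K E] [IsGalois K E] (v : N →* Multiplicative ℤ)
    (hv : ∀ (σ : E ≃ₐ[K] E) (m : N), v (rhoHom e σ.toAlgHom m) = v m) (a : A) :
    psiE e v (1 ⊗ₜ a) ∈ (mapAlgHomMon K E ℤ).range := by
  classical
  rw [← MonoidAlgebra.sum_single (psiE e v (1 ⊗ₜ a))]
  refine Subalgebra.sum_mem _ fun x _ => ?_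
  have hfix : (psiE e v (1 ⊗ₜ a)).coeff x ∈ Set.range (algebraMap K E) := by
    refine (IsGalois.mem_range_algebraMap_iff_fixed _).2 fun σ => ?_
    have h := mapRingHom_psiE e v σ.toAlgHom (hv σ) (1 ⊗ₜ a)
    rw [Algebra.TensorProduct.map_tmul, map_one, AlgHom.id_apply] at h
    conv_rhs => rw [← h]
    simp [MonoidAlgebra.mapRingHom]
  obtain ⟨c, hc⟩ := hfix
  exact ⟨MonoidAlgebra.single x c, by simp [hc]⟩

/-- the descended map -/
def psi [FiniteDimensional K E] [IsGalois K E] (v : N →* Multiplicative ℤ)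
    (hv : ∀ (σ : E ≃ₐ[K] E) (m : N), v (rhoHom e σ.toAlgHom m) = v m) : A →ₐ[K] LP K :=
  (AlgEquiv.ofInjective (mapAlgHomMon K E ℤ) mapAlgHomMon_injective).symm.toAlgHom.comp
    ((((psiE e v).restrictScalars K).comp Algebra.TensorProduct.includeRight).codRestrict _
      (psiE_mem_range e v hv))

lemma mapAlgHomMon_psi [FiniteDimensional K E] [IsGalois K E] (v : N →* Multiplicative ℤ)
    (hv : ∀ (σ : E ≃ₐ[K] E) (m : N), v (rhoHom e σ.toAlgHom m) = v m) (a : A) :
    mapAlgHomMon K E ℤ (psi e v hv a) = psiE e v (1 ⊗ₜ a) := by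
  show ((AlgEquiv.ofInjective (mapAlgHomMon K E ℤ) mapAlgHomMon_injective)
    ((AlgEquiv.ofInjective (mapAlgHomMon K E ℤ) mapAlgHomMon_injective).symm _) : LP E) = _
  rw [AlgEquiv.apply_symm_apply]
  rfl

variable [FiniteDimensional K E] [IsGalois K E] (v : N →* Multiplicative ℤ)
    (hv : ∀ (σ : E ≃ₐ[K] E) (m : N), v (rhoHom e σ.toAlgHom m) = v m)

lemma psi_surjective (hsur : Function.Surjective v) : Function.Surjective (psi e v hv) := by
  have hm : Function.Surjective (MonoidAlgebra.mapDomainAlgHom E E v) := fun z => by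
      induction z using MonoidAlgebra.induction_on with
      | of x => exact (hsur x).elim fun m hm => ⟨MonoidAlgebra.single m 1, by simp [hm]⟩
      | add p q hp hq => obtain ⟨p, rfl⟩ := hp; obtain ⟨q, rfl⟩ := hq; exact ⟨p + q, map_add _ _ _⟩
      | smul r p hp => obtain ⟨p, rfl⟩ := hp; exact ⟨r • p, map_smul _ _ _⟩
  have hE : Function.Surjective (psiE e v) := fun z => by
    obtain ⟨w, hw⟩ := hm z
    refine ⟨e.symm w, ?_⟩
    show MonoidAlgebra.mapDomainAlgHom E E v (e (e.symm w)) = z
    rw [BialgEquiv.apply_symm_apply, hw]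
  have h : Function.Surjective ((psi e v hv).toLinearMap.lTensor E) := by
    intro z
    obtain ⟨y, hy⟩ := hE (MonoidAlgebra.scalarTensorEquiv K E z)
    refine ⟨y, (MonoidAlgebra.scalarTensorEquiv K E).injective ?_⟩
    rw [← hy]
    clear hy
    induction y using TensorProduct.induction_on with
    | zero => simp
    | add p q hp hq => simp only [map_add, hp, hq]
    | tmul s a =>
      have h1 : s ⊗ₜ[K] a = s • ((1 : E) ⊗ₜ[K] a) := by
        rw [TensorProduct.smul_tmul', smul_eq_mul, _root_.mul_one]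
      rw [LinearMap.lTensor_tmul, h1, map_smul, ← mapAlgHomMon_psi e v hv a,
        show s ⊗ₜ[K] (psi e v hv).toLinearMap a = s • ((1 : E) ⊗ₜ[K] psi e v hv a) by
          rw [TensorProduct.smul_tmul', smul_eq_mul, _root_.mul_one]; rfl,
        map_smul]
      congr 1
      generalize psi e v hv a = w
      induction w using MonoidAlgebra.induction_on with
      | of m => simp [MonoidAlgebra.scalarTensorEquiv_tmul]
      | add p q hp hq => simp only [TensorProduct.tmul_add, map_add, hp, hq]
      | smul r p hp =>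
        rw [TensorProduct.tmul_smul, ← IsScalarTower.algebraMap_smul E r ((1 : E) ⊗ₜ[K] p),
          map_smul, hp, IsScalarTower.algebraMap_smul, map_smul]
  exact (Module.FaithfullyFlat.lTensor_surjective_iff_surjective K E (psi e v hv).toLinearMap).1 h

lemma cv_comp_psi (g h : LP K →ₐ[K] R) :
    (cv g h).comp (psi e v hv) = cv (g.comp (psi e v hv)) (h.comp (psi e v hv)) := by
  let inc : R →ₐ[K] E ⊗[K] R := Algebra.TensorProduct.includeRight
  let j0 : E →ₐ[K] E ⊗[K] R := IsScalarTower.toAlgHom K E (E ⊗[K] R)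
  have hval : ∀ (g : LP K →ₐ[K] R) (m : N), ev j0 (inc.comp (g.comp (psi e v hv))) (chr e m) =
      inc (g (MonoidAlgebra.single (v m) 1)) := by
    intro g m
    let G : LP E →ₐ[E] E ⊗[K] R := MonoidAlgebra.lift E (E ⊗[K] R) (Multiplicative ℤ)
      (((inc.comp g : LP K →ₐ[K] E ⊗[K] R) : LP K →* E ⊗[K] R).comp (MonoidAlgebra.of K _))
    have hG : (G.restrictScalars K).comp (mapAlgHomMon K E ℤ) = inc.comp g := by
      apply MonoidAlgebra.algHom_ext
      · intro z
        simp [G, MonoidAlgebra.lift_single]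
      all_goals ext
    have hall : ∀ y, ev j0 (inc.comp (g.comp (psi e v hv))) y = G (psiE e v y) := by
      intro y
      induction y using TensorProduct.induction_on with
      | zero => simp
      | add p q hp hq => simp only [map_add, hp, hq]
      | tmul s a =>
        have h1 : s ⊗ₜ[K] a = s • ((1 : E) ⊗ₜ[K] a) := by
          rw [TensorProduct.smul_tmul', smul_eq_mul, _root_.mul_one]
        conv_rhs => rw [h1, map_smul, map_smul, ← mapAlgHomMon_psi e v hv a]
        rw [Algebra.TensorProduct.productMap_apply_tmul, Algebra.smul_def]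
        congr 1
        exact (AlgHom.congr_fun hG _).symm
    rw [hall, psiE_chr]
    simp [G, MonoidAlgebra.lift_single]
  have key : inc.comp ((cv g h).comp (psi e v hv)) =
      inc.comp (cv (g.comp (psi e v hv)) (h.comp (psi e v hv))) := by
    refine point_ext e j0 fun m => ?_
    rw [hval, comp_cv, ev_cv_of_isGroupLike (isGroupLike_chr e m), hval, hval, cv_single, map_mul]
  exact AlgHom.ext fun a =>
    Groth.Sga3.MultType.one_tmul_injective_of_faithfullyFlat E R (AlgHom.congr_fun key a)

lemma isMonHom_pt_psi : IsMonHom (CoactBr.pt (psi e v hv)) := by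
  refine isMonHom_of_pt _ fun g h => ?_
  obtain ⟨g, rfl⟩ := pt_surjective g
  obtain ⟨h, rfl⟩ := pt_surjective h
  rw [CoactBr.pt_mul_pt, ← CoactBr.pt_comp, ← CoactBr.pt_comp, ← CoactBr.pt_comp, CoactBr.pt_mul_pt]
  exact congrArg CoactBr.pt (cv_comp_psi e v hv g h)

lemma mono_pt_psi (hsur : Function.Surjective v) : Mono (CoactBr.pt (psi e v hv)) := by
  have : IsClosedImmersion (CoactBr.pt (psi e v hv)).left := by
    rw [CoactBr.pt_left]
    exact IsClosedImmersion.spec_of_surjective _ (psi_surjective e v hv hsur)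
  exact (Over.forget _).mono_of_mono_map (inferInstanceAs (Mono (CoactBr.pt (psi e v hv)).left))

end Groth.TorusPts
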