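/- Rational points of a torus inside Galois-equivariant characters; invariant cocharacters give subtori (helper92). -/
import Groth.Agent.TorusPts.Affine
import Groth.Agent.TorusPts.Cochar
import Groth.Agent.Sga3.CharField

set_option autoImplicit false

universe u

open TensorProduct CategoryTheory AlgebraicGeometry MonoidalCategory CartesianMonoidalCategory MonObj
open Groth.AlgGrp2 Groth.Sga3.MultType

noncomputable section

namespace Groth.TorusPts

variable {K : Type u} [Field K]

/-- a finite Galois extension containing a given finite separable one -/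
theorem exists_galois_over (k' : Type u) [Field k'] [Algebra K k'] [Module.Finite K k']
    [Algebra.IsSeparable K k'] :
    ∃ (E : Type u) (_ : Field E) (_ : Algebra K E), FiniteDimensional K E ∧ IsGalois K E ∧
      Nonempty (k' →ₐ[K] E) := by
  let iota : k' →ₐ[K] SeparableClosure K := IsSepClosed.lift
  refine ⟨IntermediateField.normalClosure K k' (SeparableClosure K), inferInstance, inferInstance,
    inferInstance, inferInstance,
    ⟨(IntermediateField.inclusion (AlgHom.fieldRange_le_normalClosure iota)).comp iota.rangeRestrict⟩⟩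

/-- a Galois splitting field, with the character group identified with `ℤ^n` -/
theorem exists_galois_splitting {n : ℕ} {A : Type u} [CommRing A] [HopfAlgebra K A]
    (L : Type u) [Field L] [Algebra K L]
    (eL : L ⊗[K] A ≃ₐc[L] MonoidAlgebra L (Multiplicative (Fin n → ℤ))) :
    ∃ (E : Type u) (_ : Field E) (_ : Algebra K E) (N : Type u) (_ : CommGroup N)
      (_ : E ⊗[K] A ≃ₐc[E] MonoidAlgebra E N) (_ : N ≃* Multiplicative (Fin n → ℤ)),
      FiniteDimensional K E ∧ IsGalois K E := by
  classical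
  let N0 := Multiplicative (ULift.{u} (Fin n → ℤ))
  let g0 : N0 ≃* Multiplicative (Fin n → ℤ) := AddEquiv.toMultiplicative AddEquiv.ulift
  let eL' : L ⊗[K] A ≃ₐc[L] MonoidAlgebra L N0 :=
    eL.trans (BialgEquiv.ofBijective (MonoidAlgebra.mapDomainBialgHom L g0.symm.toMonoidHom) (by
      refine Function.bijective_iff_has_inverse.2
        ⟨MonoidAlgebra.mapDomainBialgHom L g0.toMonoidHom, fun x => ?_, fun x => ?_⟩ <;>
      induction x using MonoidAlgebra.induction_on with
      | of m => simp
      | add p q hp hq => simp only [map_add, hp, hq]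
      | smul r p hp => simp only [map_smul, hp]))
  haveI : Group.FG N0 := by
    rw [← AddGroup.fg_iff_mul_fg]
    exact Module.Finite.iff_addGroup_fg.1 (inferInstance : Module.Finite ℤ (ULift.{u} (Fin n → ℤ)))
  have hft : Algebra.FiniteType K A := by
    haveI : Monoid.FG N0 := Group.fg_iff_monoid_fg.1 inferInstance
    haveI : Algebra.FiniteType L (MonoidAlgebra L N0) := inferInstance
    haveI : Algebra.FiniteType L (L ⊗[K] A) :=
      Algebra.FiniteType.equiv inferInstance (eL' : L ⊗[K] A ≃ₐ[L] MonoidAlgebra L N0).symm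
    exact Algebra.FiniteType.of_finiteType_tensorProduct_of_faithfullyFlat L
  have hmt : SGA3b.IsMultType K A :=
    isMultType_of_const ⟨L, inferInstance, inferInstance, inferInstance, N0, inferInstance, ⟨eL'⟩⟩
  obtain ⟨k', _, _, hfin, hsep, M', _, -, ⟨e'⟩⟩ :=
    Groth.Sga3.CharLift.exists_finite_separable_isDiagFT hft hmt
  haveI : Algebra.IsSeparable K k' := hsep
  obtain ⟨E, _, _, hfd, hgal, ⟨jE⟩⟩ := exists_galois_over (K := K) k'
  let Ω := AlgebraicClosure L
  let emb : E →ₐ[K] Ω := IsAlgClosed.lift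
  letI := emb.toRingHom.toAlgebra
  haveI : IsScalarTower K E Ω := IsScalarTower.of_algebraMap_eq fun r => (emb.commutes r).symm
  letI := jE.toRingHom.toAlgebra
  haveI : IsScalarTower K k' E := IsScalarTower.of_algebraMap_eq fun r => (jE.commutes r).symm
  let eE : E ⊗[K] A ≃ₐc[E] MonoidAlgebra E M' :=
    (cancelBC K k' E A).symm.trans ((congrBC E e').trans (monAlgBC k' E M'))
  let e1 : Ω ⊗[K] A ≃ₐc[Ω] MonoidAlgebra Ω M' :=
    (cancelBC K E Ω A).symm.trans ((congrBC Ω eE).trans (monAlgBC E Ω M'))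
  let e2 : Ω ⊗[K] A ≃ₐc[Ω] MonoidAlgebra Ω N0 :=
    (cancelBC K L Ω A).symm.trans ((congrBC Ω eL').trans (monAlgBC L Ω N0))
  obtain ⟨σ, -⟩ := Groth.Sga3.CharLift.exists_mulEquiv (e1.symm.trans e2)
  refine ⟨E, inferInstance, inferInstance, M', inferInstance, eE, σ.trans g0, hfd, hgal⟩

variable {n : ℕ}

/-- the torsion data of a torus -/
theorem exists_data (T : Over (Spec (CommRingCat.of K))) [GrpObj T]
    (hT : ∃ (L : Type u) (_ : Field L) (_ : Algebra K L),
      Red.IsSplitTorusWith (Fin n → ℤ) (Red.bc (Spec.map (CommRingCat.ofHom (algebraMap K L))) T)) :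
    ∃ (H : Subgroup (Matrix.GeneralLinearGroup (Fin n) ℤ)) (_ : Finite H) (E : Type u) (_ : Field E)
      (_ : Algebra K E)
      (Φ : (𝟙_ (Over (Spec (CommRingCat.of K))) ⟶ T) →* (Multiplicative (Fin n → ℤ) →* Eˣ)),
      Function.Injective Φ ∧
      (∀ x, (∀ m, (Φ x m : E) ∈ Set.range (algebraMap K E)) → ∀ h ∈ H, ∀ m : Fin n → ℤ,
        Φ x (Multiplicative.ofAdd ((h : Matrix (Fin n) (Fin n) ℤ).mulVec m)) =
          Φ x (Multiplicative.ofAdd m)) ∧
      ((∀ i : Red.Gm (Spec (CommRingCat.of K)) ⟶ T, IsMonHom i → Mono i → False) →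
        ∀ v : (Fin n → ℤ) →+ ℤ,
          (∀ h ∈ H, ∀ m : Fin n → ℤ, v ((h : Matrix (Fin n) (Fin n) ℤ).mulVec m) = v m) → v = 0) := by
  classical
  obtain ⟨L, _, _, hL⟩ := hT
  obtain ⟨A, _, _, j, hj, ⟨eL⟩⟩ := exists_hopf_split T L hL
  haveI := hj
  obtain ⟨E, _, _, N, _, e, f, hfin, hgal⟩ := exists_galois_splitting L eL
  -- the matrices
  let act : (E ≃ₐ[K] E) → ((Fin n → ℤ) →+ (Fin n → ℤ)) := fun ξ =>
    MonoidHom.toAdditive ((f.toMonoidHom.comp (rhoHom e ξ.toAlgHom)).comp f.symm.toMonoidHom)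
  have act_apply : ∀ ξ m, Multiplicative.ofAdd (act ξ m) =
      f (rhoHom e ξ.toAlgHom (f.symm (Multiplicative.ofAdd m))) := fun _ _ => rfl
  let mat : (E ≃ₐ[K] E) → Matrix (Fin n) (Fin n) ℤ := fun ξ =>
    LinearMap.toMatrix' (act ξ).toIntLinearMap
  have mat_mulVec : ∀ ξ m, (mat ξ).mulVec m = act ξ m := fun ξ m => by
    simp [mat, LinearMap.toMatrix'_mulVec]
  let matHom : (E ≃ₐ[K] E) →* Matrix (Fin n) (Fin n) ℤ :=
    MonoidHom.mk ⟨mat, by
      apply Matrix.toLin'.injective
      refine LinearMap.ext fun m => ?_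
      rw [Matrix.toLin'_apply, Matrix.toLin'_apply, mat_mulVec, Matrix.one_mulVec]
      apply Multiplicative.ofAdd.injective
      rw [act_apply, show ((1 : E ≃ₐ[K] E).toAlgHom) = AlgHom.id K E from rfl, rhoHom_id,
        MulEquiv.apply_symm_apply]⟩ fun a b => by
      apply Matrix.toLin'.injective
      refine LinearMap.ext fun m => ?_
      show (mat (a * b)).mulVec m = (mat a * mat b).mulVec m
      rw [← Matrix.mulVec_mulVec, mat_mulVec, mat_mulVec, mat_mulVec]
      apply Multiplicative.ofAdd.injective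
      rw [act_apply, act_apply, act_apply, MulEquiv.symm_apply_apply,
        show (a * b).toAlgHom = a.toAlgHom.comp b.toAlgHom from rfl, rhoHom_comp]
  let glHom := matHom.toHomUnits
  -- points
  let e0 : CoactBr.sp K K ≅ 𝟙_ (Over (Spec (CommRingCat.of K))) :=
    Over.isoMk (Iso.refl _) (by
      show 𝟙 _ ≫ 𝟙 _ = Spec.map (CommRingCat.ofHom (algebraMap K K))
      rw [Category.comp_id, Algebra.algebraMap_self]
      exact (Spec.map_id _).symm)
  choose g hg using fun x : 𝟙_ (Over (Spec (CommRingCat.of K))) ⟶ T =>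
    pt_surjective (R := K) (B := A) (K := K) (e0.hom ≫ x ≫ j.inv)
  haveI : IsMonHom j.inv := inferInstance
  let Ψ : (𝟙_ (Over (Spec (CommRingCat.of K))) ⟶ T) →* (N →* Eˣ) :=
    MonoidHom.mk' (fun x => val e (g x)) fun x y => by
      rw [← val_cv]
      congr 1
      apply CoactBr.pt_injective
      rw [cv, ← CoactBr.pt_mul_pt, hg, hg, hg, MonObj.mul_comp, MonObj.comp_mul]
  let Φ : (𝟙_ (Over (Spec (CommRingCat.of K))) ⟶ T) →* (Multiplicative (Fin n → ℤ) →* Eˣ) :=
    MonoidHom.mk' (fun x => (Ψ x).comp f.symm.toMonoidHom) fun x y => by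
      rw [map_mul]
      ext m
      rfl
  have Φ_apply : ∀ x m, Φ x m = val e (g x) (f.symm m) := fun _ _ => rfl
  refine ⟨glHom.range, inferInstance, E, inferInstance, inferInstance, Φ, ?_, ?_, ?_⟩
  · intro x y h
    have h1 : val e (g x) = val e (g y) := MonoidHom.ext fun m => by
      simpa [Φ_apply] using DFunLike.congr_fun h (f m)
    have h2 := congrArg CoactBr.pt (val_injective e h1)
    rw [hg, hg, cancel_epi, cancel_mono] at h2
    exact h2
  · rintro x hx h ⟨ξ, rfl⟩ m
    rw [show ((glHom ξ : Matrix.GeneralLinearGroup (Fin n) ℤ) : Matrix (Fin n) (Fin n) ℤ) = mat ξ from rfl,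
      mat_mulVec, act_apply, Φ_apply, Φ_apply, MulEquiv.symm_apply_apply]
    apply Units.ext
    rw [val_rho]
    obtain ⟨c, hc⟩ := hx (Multiplicative.ofAdd m)
    rw [Φ_apply] at hc
    rw [← hc]
    exact ξ.commutes c
  · intro haniso v hv
    by_contra hv0
    -- normalise
    obtain ⟨d, hd⟩ : ∃ d : ℤ, v.range = AddSubgroup.zmultiples d := by
      obtain ⟨d, hd⟩ := Int.subgroup_cyclic v.range
      exact ⟨d, by rw [hd, AddSubgroup.zmultiples_eq_closure]⟩
    have hd0 : d ≠ 0 := by
      rintro rfl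
      apply hv0
      ext m
      have : v _ ∈ v.range := ⟨Pi.single m 1, rfl⟩
      rw [hd, AddSubgroup.zmultiples_zero_eq_bot] at this
      simpa using this
    have hdvd : ∀ m, d ∣ v m := fun m => by
      have : v m ∈ v.range := ⟨m, rfl⟩
      rw [hd] at this
      exact Int.mem_zmultiples_iff.1 this
    choose w hw using hdvd
    let vn : N →* Multiplicative ℤ := MonoidHom.mk' (fun m => Multiplicative.ofAdd (w (f m).toAdd))
      fun a b => by
        apply Multiplicative.toAdd.injective
        simp only [toAdd_mul, toAdd_ofAdd, map_mul]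
        apply mul_left_cancel₀ hd0
        rw [mul_add, ← hw, ← hw, ← hw, map_add]
    have hsur : Function.Surjective vn := by
      intro z
      obtain ⟨m, hm⟩ : v.range.carrier (d * z.toAdd) := by
        show d * z.toAdd ∈ v.range
        rw [hd]
        exact Int.mem_zmultiples_iff.2 (dvd_mul_right _ _)
      refine ⟨f.symm (Multiplicative.ofAdd m), ?_⟩
      apply Multiplicative.toAdd.injective
      show w (f (f.symm (Multiplicative.ofAdd m))).toAdd = z.toAdd
      rw [MulEquiv.apply_symm_apply, toAdd_ofAdd]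
      exact mul_left_cancel₀ hd0 ((hw m).symm.trans hm)
    have hinv : ∀ (ξ : E ≃ₐ[K] E) (m : N), vn (rhoHom e ξ.toAlgHom m) = vn m := by
      intro ξ m
      apply Multiplicative.toAdd.injective
      apply mul_left_cancel₀ hd0
      show d * w _ = d * w _
      rw [← hw, ← hw]
      have h := hv (glHom ξ) ⟨ξ, rfl⟩ (f m).toAdd
      rw [show ((glHom ξ : Matrix.GeneralLinearGroup (Fin n) ℤ) : Matrix (Fin n) (Fin n) ℤ) = mat ξ from rfl,
        mat_mulVec] at h
      convert h using 2
      rw [← toAdd_ofAdd (act ξ (f m).toAdd), act_apply, ofAdd_toAdd, MulEquiv.symm_apply_apply]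
    haveI := isMonHom_pt_psi e vn hinv
    haveI := mono_pt_psi e vn hinv hsur
    haveI : IsMonHom (diagIsoDS K ℤ).inv := inferInstance
    exact haniso ((diagIsoDS K ℤ).inv ≫ CoactBr.pt (psi e vn hinv) ≫ j.hom) inferInstance inferInstance

end Groth.TorusPts
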