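/- Finite groups of integer matrices without invariant linear forms (helper92). -/
import Mathlib

set_option autoImplicit false

namespace Groth.TorusPts

variable {n : ℕ} {H : Subgroup (Matrix.GeneralLinearGroup (Fin n) ℤ)}

theorem sum_mulVec_eq_zero [Fintype H]
    (hv : ∀ v : (Fin n → ℤ) →+ ℤ,
      (∀ h ∈ H, ∀ m : Fin n → ℤ, v ((h : Matrix (Fin n) (Fin n) ℤ).mulVec m) = v m) → v = 0)
    (m : Fin n → ℤ) :
    ∑ h : H, ((h : Matrix.GeneralLinearGroup (Fin n) ℤ) : Matrix (Fin n) (Fin n) ℤ).mulVec m = 0 := by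
  funext i
  let v : (Fin n → ℤ) →+ ℤ := AddMonoidHom.mk'
    (fun m => (∑ h : H, ((h : Matrix.GeneralLinearGroup (Fin n) ℤ) : Matrix (Fin n) (Fin n) ℤ).mulVec m) i)
    (fun a b => by simp [Matrix.mulVec_add, Finset.sum_add_distrib])
  have h0 : v = 0 := hv v fun h hh m => by
    refine congrFun (Fintype.sum_equiv (Equiv.mulRight (⟨h, hh⟩ : H))
      (fun g : H => ((g : Matrix.GeneralLinearGroup (Fin n) ℤ) : Matrix (Fin n) (Fin n) ℤ).mulVec
        ((h : Matrix (Fin n) (Fin n) ℤ).mulVec m))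
      (fun g : H => ((g : Matrix.GeneralLinearGroup (Fin n) ℤ) : Matrix (Fin n) (Fin n) ℤ).mulVec m)
      fun g => ?_) i
    simp [Matrix.mulVec_mulVec]
  exact DFunLike.congr_fun h0 m

theorem pow_card_eq_one [Fintype H] {G : Type*} [CommGroup G]
    (hv : ∀ v : (Fin n → ℤ) →+ ℤ,
      (∀ h ∈ H, ∀ m : Fin n → ℤ, v ((h : Matrix (Fin n) (Fin n) ℤ).mulVec m) = v m) → v = 0)
    (χ : Multiplicative (Fin n → ℤ) →* G)
    (hinv : ∀ h ∈ H, ∀ m : Fin n → ℤ, χ (Multiplicative.ofAdd ((h : Matrix (Fin n) (Fin n) ℤ).mulVec m)) =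
      χ (Multiplicative.ofAdd m)) :
    χ ^ Nat.card H = 1 := by
  refine MonoidHom.ext fun m => ?_
  rw [MonoidHom.pow_apply, Nat.card_eq_fintype_card, MonoidHom.one_apply, ← Finset.card_univ,
    ← Finset.prod_const]
  calc ∏ _h : H, χ m = ∏ h : H, χ (Multiplicative.ofAdd
        (((h : Matrix.GeneralLinearGroup (Fin n) ℤ) : Matrix (Fin n) (Fin n) ℤ).mulVec m.toAdd)) :=
        Finset.prod_congr rfl fun h _ => (hinv h h.2 m.toAdd).symm
    _ = χ (Multiplicative.ofAdd (∑ h : H,
        ((h : Matrix.GeneralLinearGroup (Fin n) ℤ) : Matrix (Fin n) (Fin n) ℤ).mulVec m.toAdd)) := by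
        rw [ofAdd_sum, map_prod]
    _ = 1 := by rw [sum_mulVec_eq_zero hv, ofAdd_zero, map_one]

/-- a monic quadratic relation with trace at least two in absolute value has no roots of unity except scalars -/
theorem natAbs_trace_lt_two {h : Matrix (Fin 2) (Fin 2) ℤ} (hdet : h.det = 1) {k : ℕ} (hk : 0 < k)
    (hpow : h ^ k = 1) (h1 : h ≠ 1) (h2 : h ≠ -1) : |h 0 0 + h 1 1| < 2 := by
  by_contra hlt
  push Not at hlt
  set t := h 0 0 + h 1 1 with ht
  have hd : h 0 0 * h 1 1 - h 0 1 * h 1 0 = 1 := by rwa [← Matrix.det_fin_two]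
  have hCH : h * h = t • h - 1 := by
    ext i j
    fin_cases i <;> fin_cases j <;>
      simp [Matrix.mul_apply, Fin.sum_univ_two, ht, Matrix.smul_apply, -zsmul_eq_mul] <;> linarith
  -- powers
  have key : ∀ m : ℕ, ∃ a b : ℤ, |b| < |a| ∧ h ^ (m + 1) = a • h - b • 1 := by
    intro m
    induction m with
    | zero => exact ⟨1, 0, by simp, by simp⟩
    | succ m ih =>
      obtain ⟨a, b, hab, he⟩ := ih
      refine ⟨t * a - b, a, ?_, ?_⟩
      · have h3 : |t * a| ≤ |t * a - b| + |b| := by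
          calc |t * a| = |(t * a - b) + b| := by rw [sub_add_cancel]
            _ ≤ _ := abs_add_le _ _
        have h4 : 2 * |a| ≤ |t * a| := by
          rw [abs_mul]; exact mul_le_mul_of_nonneg_right hlt (abs_nonneg _)
        linarith
      · rw [pow_succ, he, sub_mul, smul_mul_assoc, smul_mul_assoc, one_mul, hCH]
        module
  obtain ⟨a, b, hab, he⟩ := key (k - 1)
  rw [Nat.sub_add_cancel hk, hpow] at he
  have e00 := congrFun (congrFun he 0) 0
  have e01 := congrFun (congrFun he 0) 1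
  have e10 := congrFun (congrFun he 1) 0
  have e11 := congrFun (congrFun he 1) 1
  simp [Matrix.smul_apply, Matrix.intCast_apply, -zsmul_eq_mul] at e00 e01 e10 e11
  have ha : a ≠ 0 := fun h0 => by subst h0; simp at hab; exact absurd hab (not_lt.2 (abs_nonneg b))
  have z01 : h 0 1 = 0 := e01.resolve_left ha
  have z10 : h 1 0 = 0 := e10.resolve_left ha
  rw [z01, zero_mul, sub_zero] at hd
  rcases Int.mul_eq_one_iff_eq_one_or_neg_one.1 hd with ⟨x, y⟩ | ⟨x, y⟩
  · exact h1 (by ext i j; fin_cases i <;> fin_cases j <;> simp [x, y, z01, z10])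
  · exact h2 (by ext i j; fin_cases i <;> fin_cases j <;> simp [x, y, z01, z10])

/-- some element has no eigenvalue one, and small characteristic value at one -/
theorem exists_small_det_two {H : Subgroup (Matrix.GeneralLinearGroup (Fin 2) ℤ)} [Finite H]
    (hv : ∀ v : (Fin 2 → ℤ) →+ ℤ,
      (∀ h ∈ H, ∀ m : Fin 2 → ℤ, v ((h : Matrix (Fin 2) (Fin 2) ℤ).mulVec m) = v m) → v = 0) :
    ∃ h ∈ H, 0 < ((h : Matrix (Fin 2) (Fin 2) ℤ) - 1).det ∧
      ((h : Matrix (Fin 2) (Fin 2) ℤ) - 1).det ≤ 4 := by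
  classical
  haveI := Fintype.ofFinite H
  obtain ⟨h, hh, hne, hdet⟩ : ∃ h ∈ H, h ≠ 1 ∧ (h : Matrix (Fin 2) (Fin 2) ℤ).det = 1 := by
    by_contra hno
    push Not at hno
    let d : H →* ℤˣ := Matrix.GeneralLinearGroup.det.comp H.subtype
    have hinj : Function.Injective d := by
      rw [injective_iff_map_eq_one]
      intro g hg
      by_contra hg1
      refine hno g g.2 (fun e => hg1 (Subtype.ext e)) ?_
      exact congrArg Units.val hg
    by_cases hall : ∀ g : H, g = 1
    · have h0 := sum_mulVec_eq_zero hv (Pi.single 0 1)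
      rw [Finset.sum_eq_single (1 : H) (fun b _ hb => absurd (hall b) hb) (by simp)] at h0
      have h00 := congrFun h0 0
      simp at h00
    · push Not at hall
      obtain ⟨s, hs⟩ := hall
      have hds : d s = -1 := (Int.units_eq_one_or (d s)).resolve_left
        fun e => hs (hinj (e.trans (map_one d).symm))
      have hu : (Finset.univ : Finset H) = {1, s} := by
        ext g
        simp only [Finset.mem_univ, Finset.mem_insert, Finset.mem_singleton, true_iff]
        rcases Int.units_eq_one_or (d g) with e | e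
        · exact Or.inl (hinj (e.trans (map_one d).symm))
        · exact Or.inr (hinj (e.trans hds.symm))
      have key : ((s : Matrix.GeneralLinearGroup (Fin 2) ℤ) : Matrix (Fin 2) (Fin 2) ℤ) = -1 := by
        apply Matrix.toLin'.injective
        refine LinearMap.ext fun m => ?_
        have h0 := sum_mulVec_eq_zero hv m
        rw [hu, Finset.sum_pair (Ne.symm hs)] at h0
        rw [Matrix.toLin'_apply, Matrix.toLin'_apply, Matrix.neg_mulVec, Matrix.one_mulVec]
        simp only [OneMemClass.coe_one, Units.val_one, Matrix.one_mulVec] at h0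
        exact eq_neg_of_add_eq_zero_right h0
      have : ((d s : ℤˣ) : ℤ) = 1 := by
        show (Matrix.det _) = (1 : ℤ)
        rw [show ((H.subtype s : Matrix.GeneralLinearGroup (Fin 2) ℤ) : Matrix (Fin 2) (Fin 2) ℤ) = -1 from key]
        simp [Matrix.det_fin_two]
      rw [hds] at this
      simp at this
  refine ⟨h, hh, ?_⟩
  have hd : ((h : Matrix (Fin 2) (Fin 2) ℤ) - 1).det =
      2 - ((h : Matrix (Fin 2) (Fin 2) ℤ) 0 0 + (h : Matrix (Fin 2) (Fin 2) ℤ) 1 1) := by
    rw [Matrix.det_fin_two] at hdet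
    simp [Matrix.det_fin_two]
    linarith
  by_cases hm : (h : Matrix (Fin 2) (Fin 2) ℤ) = -1
  · rw [hd, hm]; simp
  · have hfo : IsOfFinOrder (⟨h, hh⟩ : H) := isOfFinOrder_of_finite _
    have hpow : (h : Matrix (Fin 2) (Fin 2) ℤ) ^ orderOf (⟨h, hh⟩ : H) = 1 := by
      have := congrArg (fun g : H => ((g : Matrix.GeneralLinearGroup (Fin 2) ℤ) : Matrix (Fin 2) (Fin 2) ℤ))
        (pow_orderOf_eq_one (⟨h, hh⟩ : H))
      simpa only [SubmonoidClass.coe_pow, OneMemClass.coe_one, Units.val_pow_eq_pow_val, Units.val_one] using this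
    have := natAbs_trace_lt_two hdet hfo.orderOf_pos hpow
      (fun e => hne (Units.ext e)) hm
    rw [abs_lt] at this
    omega

/-- an element with nonzero value `e` at one kills invariant characters after the power `e` -/
theorem pow_det_eq_one {G : Type*} [CommGroup G] (h : Matrix (Fin n) (Fin n) ℤ)
    (χ : Multiplicative (Fin n → ℤ) →* G)
    (hinv : ∀ m : Fin n → ℤ, χ (Multiplicative.ofAdd (h.mulVec m)) = χ (Multiplicative.ofAdd m))
    (e : ℕ) (he : (h - 1).det = e) : χ ^ e = 1 := by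
  refine MonoidHom.ext fun m => ?_
  obtain ⟨m, rfl⟩ := Multiplicative.ofAdd.surjective m
  have hk : ∀ y, χ (Multiplicative.ofAdd ((h - 1).mulVec y)) = 1 := fun y => by
    rw [Matrix.sub_mulVec, Matrix.one_mulVec, ofAdd_sub, map_div, hinv, div_self']
  have := hk ((h - 1).adjugate.mulVec m)
  rw [Matrix.mulVec_mulVec, Matrix.mul_adjugate, he, Matrix.smul_mulVec, Matrix.one_mulVec,
    Nat.cast_smul_eq_nsmul, ofAdd_nsmul, map_pow] at this
  simpa using this

end Groth.TorusPts
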