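/- Torsion of rational points of anisotropic tori (helper92). -/
import Groth.Agent.TorusPts.Data
import Groth.Agent.TorusPts.FinGL

set_option autoImplicit false

universe u

open CategoryTheory MonoidalCategory CartesianMonoidalCategory MonObj AlgebraicGeometry Polynomial

noncomputable section

namespace Groth.TorusPts

lemma pow_eq_one_of_phi {G N : Type*} [Group G] [CommGroup N] {M : Type*} [MulOneClass M]
    {Φ : G →* (M →* N)} (hΦ : Function.Injective Φ) {x : G} {k : ℕ} (h : Φ x ^ k = 1) : x ^ k = 1 :=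
  hΦ (by rw [map_pow, map_one, h])

lemma mem_range_of_pow_eq_one {K E : Type*} [Field K] [Field E] [Algebra K E] {k : ℕ} (hk : 0 < k)
    (hK : (X ^ k - 1 : K[X]).Splits) {v : E} (hv : v ^ k = 1) : v ∈ Set.range (algebraMap K E) := by
  refine hK.mem_range_of_isRoot (i := algebraMap K E) ?_ ?_
  · exact (monic_X_pow_sub_C (1 : K) hk.ne').ne_zero
  · simp [hv]

lemma cast_ne_zero_of_pow {E : Type*} [Field E] {M : Type*} [MulOneClass M] {G : Type*} [Group G]
    {Φ : G →* (M →* Eˣ)} (hΦ : Function.Injective Φ) {x : G} (hx : IsOfFinOrder x) :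
    ((orderOf x : ℕ) : E) ≠ 0 := by
  intro h0
  obtain ⟨p, hchar⟩ := CharP.exists E
  have hdvd : p ∣ orderOf x := (CharP.cast_eq_zero_iff E p _).1 h0
  have hp0 : p ≠ 0 := fun e => hx.orderOf_pos.ne' (Nat.eq_zero_of_zero_dvd (e ▸ hdvd))
  have hp : p.Prime := (CharP.char_is_prime_or_zero E p).resolve_right hp0
  haveI := Fact.mk hp
  have hy : Φ (x ^ (orderOf x / p)) = 1 := by
    refine MonoidHom.ext fun m => Units.ext ?_
    have h1 : (Φ (x ^ (orderOf x / p)) m : E) ^ p = 1 := by
      rw [← Units.val_pow_eq_pow_val, ← MonoidHom.pow_apply, ← map_pow, ← pow_mul,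
        Nat.div_mul_cancel hdvd, pow_orderOf_eq_one, map_one]
      rfl
    refine sub_eq_zero.1 (pow_eq_zero_iff hp.ne_zero |>.1 ?_)
    rw [sub_pow_char, h1, MonoidHom.one_apply, Units.val_one, one_pow, sub_self]
  have hy' : x ^ (orderOf x / p) = 1 := hΦ (hy.trans (map_one Φ).symm)
  have := orderOf_dvd_of_pow_eq_one hy'
  have hlt : orderOf x / p < orderOf x := Nat.div_lt_self hx.orderOf_pos hp.one_lt
  have hpos : 0 < orderOf x / p := Nat.div_pos (Nat.le_of_dvd hx.orderOf_pos hdvd) hp.pos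
  exact absurd (Nat.le_of_dvd hpos this) (not_le.2 hlt)

lemma card_le_of_pow {E : Type*} [Field E] {n k : ℕ} (hk : 0 < k) {G : Type*} [Group G] [Finite G]
    {Φ : G →* (Multiplicative (Fin n → ℤ) →* Eˣ)} (hΦ : Function.Injective Φ)
    (h : ∀ x, Φ x ^ k = 1) : Nat.card G ≤ k ^ n := by
  haveI : NeZero k := ⟨hk.ne'⟩
  let val : G → (Fin n → rootsOfUnity k E) := fun x i =>
    ⟨Φ x (Multiplicative.ofAdd (Pi.single i 1)), by
      rw [mem_rootsOfUnity, ← MonoidHom.pow_apply, h, MonoidHom.one_apply]⟩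
  have hval : Function.Injective val := fun x y hxy => hΦ (by
    ext i
    simpa [val] using congrArg (fun u : rootsOfUnity k E => ((u : Eˣ) : E)) (congrFun hxy i))
  calc Nat.card G ≤ Nat.card (Fin n → rootsOfUnity k E) := Nat.card_le_card_of_injective val hval
    _ = Nat.card (rootsOfUnity k E) ^ n := by rw [Nat.card_fun, Nat.card_fin]
    _ ≤ k ^ n := Nat.pow_le_pow_left ((card_rootsOfUnity (R := E) k)) n

end Groth.TorusPts
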